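import Cfsg.Agent.KZ.DatX.Main
import Cfsg.Agent.DL.Tw.Ree

/-!
# KZ, `G₂(3 ^ e)` and `²G₂(3 ^ (2 m + 1))` as groups `G ^ F` (helper84)

`GamG`, `has_G2three`, `has_2G2`, `row_2G2`.
-/

set_option autoImplicit false
set_option linter.unusedSectionVars false

namespace Cfsg.Agent.KZ.DatX

open CoxeterSystem Cfsg Cfsg.Lie Cfsg.Lie.ChevalleyDatum Matrix
open Cfsg.Agent.ChevalleyStructure Cfsg.Agent.ChevalleyStructure.Elts Cfsg.Agent.ChevalleyStructure.CoxeterGeom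
  Cfsg.Agent.ChevalleyStructure.CoxeterGeomTypes Cfsg.Agent.ChevalleyStructure.NPerm
open Cfsg.Agent.Tits.Roots Cfsg.Agent.Nodes Cfsg.Agent.Nodes.RGDChev Cfsg.Agent.Nodes.BNOf
open Cfsg.Agent.KFacts.RgdChevCoord Cfsg.Agent.BpExc.TowChev Cfsg.Agent.GpExc.Field Cfsg.Agent.BpExc
  Cfsg.Agent.BpExc.TorChev
open Cfsg.Agent.DL Cfsg.Agent.DL.Ex Cfsg.Agent.DL.PP Cfsg.Agent.DL.Uni Cfsg.Agent.KZ.Lie
open Cfsg.Agent.H79.DiagSymm

/-- the special isogeny of `G₂` -/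
def GamG : Matrix (Fin 2) (Fin 2) ℤ := pm 3 (Equiv.swap 0 1) ![1, 0]

theorem GamG_eq : GamG = !![0, 1; 3, 0] := by decide +kernel

theorem posG : ∀ r < chevG2.nroots, (∀ i, 0 ≤ RGDChev.vec chevG2 2 r i) →
    ∀ i, 0 ≤ RGDChev.vec chevG2 2 (H689.Ccp.fl r) i := by decide +kernel

theorem exG (m : ℕ) (i : Fin 2) : Tw.exG2 m (chevG2.simple i) = m + (![1, 0] : Fin 2 → ℕ) i := by
  have h : ∀ i : Fin 2, H689.Ccp.la (chevG2.simple i) = (![3, 1] : Fin 2 → ℕ) i := by decide +kernel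
  rw [Tw.exG2, h]
  fin_cases i <;> rfl

theorem spcD_G (m : ℕ) : Tw.SpcD chevG2 2 H689.Ccp.fl (Tw.exG2 m) (Equiv.swap (0 : Fin 2) 1) (2 * m + 1) :=
  have h : (Tw.sw2 : Fin 2 → Fin 2) = Equiv.swap (0 : Fin 2) 1 := by decide
  h ▸ Tw.spcD_G2 m

theorem geG : ∀ i : Fin 2,
    chevG2.graphExp 3 i (Equiv.swap (0 : Fin 2) 1 i : Fin 2) = 3 ^ (0 + (![1, 0] : Fin 2 → ℕ) i) := by decide +kernel

section

variable (k : Type) [Field k] [CharP k 3] [IsAlgClosed k]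

/-- the special isogenies of `G₂` -/
noncomputable def gdG (m : ℕ) : Gd hpG2 3 (Tw.reeA k m) (Equiv.swap 0 1) fun i => m + (![1, 0] : Fin 2 → ℕ) i :=
  gdC (Tw.spc_G2 k m) (spcD_G m) posG (exG m)

theorem grL_G2three (F : Type) [Field F] [Fintype F] [CharP F 3] : GrL hpG2 3 k F [1, GamG] := by
  intro g ρ hρ _
  have h := imgs_G2 hρ
  rcases List.mem_cons.1 h with h | h
  · exact gr_one (eq_one_of_imgs h) List.mem_cons_self _
  · refine ⟨_, _, _, ⟨gdG k 0⟩, ?_, fun i => ⟨val_of_imgs (hp := hpG2) (List.mem_singleton.1 h) (by decide) i, ?_⟩⟩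
    · rw [pm_add, pow_zero, one_smul]
      exact List.mem_cons_of_mem _ List.mem_cons_self
    · rw [ringChar.eq F 3]
      exact geG i

end

theorem has_G2three {F : Type} [Field F] [Fintype F] [CharP F 3] {e : ℕ} (hF : Fintype.card F = 3 ^ e) :
    Has hpG2 3 ((3 : ℤ) ^ e • 1) (AdmL 3 [1, GamG]) 1 ↥(chevG2.group F) :=
  have := charP_closure 3 F
  has_split1 hF hpG2 (over_G2 _ hF hpG2) List.mem_cons_self (grL_G2three _ F)

theorem has_2G2 {K : Type} [Field K] [Fintype K] {m : ℕ} (hm : 1 ≤ m) (hK : Fintype.card K = 3 ^ (2 * m + 1)) :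
    Has hpG2 3 ((3 : ℤ) ^ m • GamG) (AdmF 3) 1 ↥(twistedG2 K (3 ^ m)) := by
  obtain ⟨_, _, hk⟩ := Tw.setup' Nat.prime_three (Nat.succ_ne_zero _) hK
  have E := Tw.emb_G2 (algebraMap K (AlgebraicClosure K)) hK
  have O : Over (Tw.reeA (AlgebraicClosure K) m) ⊤ (TT chevG2 _) (Tw.embG2 (algebraMap K _) m) 1 := by
    refine over_of_range E.inj (le_antisymm ?_ fun y hy => pow_one y ▸ E.pow y hy) (TT_comm hpG2) le_top
    rintro _ ⟨s, rfl⟩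
    exact E.mem s
  refine ⟨AlgebraicClosure K, _, _, _, _, ⟨xsT hk ((Tw.spc_G2 _ m).amb (Tw.spcD_G2 m) hk (Nat.succ_pos _)) (gdG _ m)
    (pm_add 3 _ m _) O (Nat.coprime_one_left _) (fun _ => idx_of_one O rfl) fun σ => ?_⟩⟩
  obtain ⟨g, τ, rfl⟩ := H71.FldAut.ree_aut hm hK σ
  obtain ⟨j, hj⟩ := exists_frob 3 τ
  refine ⟨_, (O.mem g).2, j, fun s => (conj_hom _ g _ s).trans ?_⟩
  congr 2
  exact frob_eq (hp := hpG2) _ hj rfl rfl

theorem row_2G2 {S : Type} [Group S] (h : IsoRee S) :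
    ∃ m : ℕ, 1 ≤ m ∧ Has hpG2 3 ((3 : ℤ) ^ m • GamG) (AdmF 3) 1 S := by
  obtain ⟨K, _, _, m, hm, hK, ⟨i⟩⟩ := h
  exact ⟨m, hm, (has_2G2 hm hK).congr i⟩

end Cfsg.Agent.KZ.DatX
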