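import Cfsg.Agent.KZ.DatX.Gd
import Cfsg.Agent.DL.Tw.Gr
import Cfsg.Agent.DL.Tw.Suz
import Cfsg.Agent.H79.DiagSymm
import Cfsg.Agent.H79.GraphD4
import Cfsg.Agent.H69.OutGF

/-!
# KZ, the exceptional groups: graph automorphisms (helper84)

The matrices `P6`, `P4`, `L4`, `GamF`, `GamB`; the automorphisms `gd6`, `gd4a`, `gd4c`, `gdF`, `gdB`; `grL_*` : every graph
automorphism of the finite group is lifted.
-/

set_option autoImplicit false
set_option linter.unusedSectionVars false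

namespace Cfsg.Agent.KZ.DatX

open CoxeterSystem Cfsg Cfsg.Lie Cfsg.Lie.ChevalleyDatum Matrix
open Cfsg.Agent.ChevalleyStructure Cfsg.Agent.ChevalleyStructure.Elts Cfsg.Agent.ChevalleyStructure.CoxeterGeom
  Cfsg.Agent.ChevalleyStructure.CoxeterGeomTypes Cfsg.Agent.ChevalleyStructure.NPerm
open Cfsg.Agent.Tits.Roots Cfsg.Agent.Nodes Cfsg.Agent.Nodes.RGDChev Cfsg.Agent.Nodes.BNOf
open Cfsg.Agent.KFacts.RgdChevCoord Cfsg.Agent.BpExc.TowChev Cfsg.Agent.GpExc.Field Cfsg.Agent.BpExc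
  Cfsg.Agent.BpExc.TorChev
open Cfsg.Agent.DL Cfsg.Agent.DL.Ex Cfsg.Agent.DL.PP Cfsg.Agent.DL.Uni Cfsg.Agent.KZ.Lie
open Cfsg.Agent.ChevalleyStructure.SignedSymm Cfsg.Agent.ChevalleyStructure.GraphSymm
open Cfsg.Agent.H79.DiagSymm Cfsg.Agent.H79.GraphD4

/-! ### the types -/

theorem hpG2 : IsType chevG2 2 CoxeterMatrix.G₂ := by simp [IsType, typeList]

theorem hpB2 : IsType chevB2 2 (CoxeterMatrix.B 2) := Tw.tyB2

theorem hpD4 : IsType chevD4 4 coxeterD4 := hp4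

theorem hpF4 : IsType chevF4 4 CoxeterMatrix.F₄ := H493.F4Tor.hp

theorem hpE6 : IsType chevE6 6 CoxeterMatrix.E₆ := hp6

theorem hpE7 : IsType chevE7 7 CoxeterMatrix.E₇ := by simp [IsType, typeList]

theorem hpE8 : IsType chevE8 8 CoxeterMatrix.E₈ := by simp [IsType, typeList]

/-! ### the matrices -/

/-- the permutation matrix with the entries `1` at the positions `(π j, j)` -/
def pmat {l : ℕ} (π : Equiv.Perm (Fin l)) : Matrix (Fin l) (Fin l) ℤ := Matrix.of fun i j => if i = π j then 1 else 0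

theorem pm_zero {l : ℕ} (p : ℕ) (π : Equiv.Perm (Fin l)) : pm p π (fun _ => 0) = pmat π := by
  ext a b
  simp only [pm, pmat, Matrix.of_apply, pow_zero]

theorem pmat_one {l : ℕ} : pmat (1 : Equiv.Perm (Fin l)) = 1 := (pm_zero 1 1).symm.trans (pm_one 1)

/-- the symmetry of the diagram `E₆` -/
def P6 : Matrix (Fin 6) (Fin 6) ℤ := pmat pi6

/-- triality -/
def P4 : Matrix (Fin 4) (Fin 4) ℤ := pmat pi4

/-- an involution of the diagram `D₄` -/
def pi4c : Equiv.Perm (Fin 4) := Equiv.swap 0 2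

/-- the symmetries of the diagram `D₄` -/
def L4 : List (Matrix (Fin 4) (Fin 4) ℤ) := [1, pmat pi4, pmat (pi4 * pi4), pmat pi4c, pmat (pi4 * pi4c), pmat (pi4c * pi4)]

/-- the flip of the diagram `F₄` -/
def piF : Equiv.Perm (Fin 4) := ⟨![3, 2, 1, 0], ![3, 2, 1, 0], by decide, by decide⟩

/-- the special isogeny of `F₄` -/
def GamF : Matrix (Fin 4) (Fin 4) ℤ := pm 2 piF ![1, 1, 0, 0]

/-- the special isogeny of `B₂` -/
def GamB : Matrix (Fin 2) (Fin 2) ℤ := pm 2 (Equiv.swap 0 1) ![1, 0]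

theorem GamF_eq : GamF = !![0, 0, 0, 1; 0, 0, 1, 0; 0, 2, 0, 0; 2, 0, 0, 0] := by decide +kernel

theorem GamB_eq : GamB = !![0, 1; 2, 0] := by decide +kernel

theorem P6_eq : P6 = !![0, 0, 0, 0, 0, 1; 0, 1, 0, 0, 0, 0; 0, 0, 0, 0, 1, 0; 0, 0, 0, 1, 0, 0; 0, 0, 1, 0, 0, 0;
    1, 0, 0, 0, 0, 0] := by decide +kernel

theorem P4_eq : P4 = !![0, 0, 0, 1; 0, 1, 0, 0; 1, 0, 0, 0; 0, 0, 1, 0] := by decide +kernel

/-! ### the automorphisms -/

section Gen

variable {C : ChevalleyDatum} {l : ℕ} {M : CoxeterMatrix (Fin l)} {hp : IsType C l M} {p : ℕ} [Fact p.Prime] {k : Type}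
  [Field k] [CharP k p] [IsAlgClosed k]

variable (hp p k) in
/-- a signed symmetry -/
def gdS (S : Symm C) {π : Equiv.Perm (Fin l)} (T : Tab C l (bS S) (fun _ => 0) (eS S) π) (O : Onto C l (bS S)) :
    Gd hp p (S.aut k) π fun _ => 0 :=
  ⟨bS S, fun _ => 0, eS S, acts_aut p _ S, T, O, fun _ => rfl⟩

/-- a special isogeny -/
def gdC {α : MulAut ↥(C.group k)} {σ ex : ℕ → ℕ} {π : Equiv.Perm (Fin l)} {e : ℕ} {x : Fin l → ℕ}
    (h : Tw.Spc hp p α σ ex) (D : Tw.SpcD C l σ ex π e)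
    (pos : ∀ r < C.nroots, (∀ i, 0 ≤ RGDChev.vec C l r i) → ∀ i, 0 ≤ RGDChev.vec C l (σ r) i)
    (hx : ∀ i : Fin l, ex (C.simple i) = x i) : Gd hp p α π x where
  b := σ
  e := ex
  ε _ := 1
  acts r hr t := by rw [← xc_vec hp hr, h.act r hr, xc_vec hp (D.lt r hr), Int.cast_one, one_mul, zero_add]
  tab := ⟨fun r hr => ⟨D.lt r hr, one_mul _, pos r hr⟩, fun i =>
    have hi := simple_lt hp.inList (lt_rank hp i)
    ⟨D.simple i, by rw [D.neg _ hi, D.simple], rfl, rfl, D.exneg _ hi⟩⟩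
  onto s hs h0 := ⟨σ s, D.lt s hs, pos s hs h0, D.inv s hs⟩
  ex := hx

variable {F : Type} [Field F]

theorem graphExp_self (c i : ℕ) : C.graphExp c i i = 1 := by
  unfold ChevalleyDatum.graphExp
  cases C.isLong (C.simple i) <;> rfl

theorem val_of_imgs {ρ : Equiv.Perm (Fin C.rank)} {π : Equiv.Perm (Fin l)} {L : List ℕ} (h : imgs ρ = L)
    (h' : ∀ i : Fin l, L.getD i 0 = π i) (i : Fin l) : (ρ ⟨i, lt_rank hp i⟩ : ℕ) = π i := by
  rw [← h', ← h]
  exact (imgs_getD ρ ⟨i, lt_rank hp i⟩).symm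

/-- the trivial symmetry -/
theorem gr_one {ρ : Equiv.Perm (Fin C.rank)} (h : ρ = 1) {L : List (Matrix (Fin l) (Fin l) ℤ)} (h1 : 1 ∈ L) (c : ℕ) :
    ∃ (α : MulAut ↥(C.group k)) (π : Equiv.Perm (Fin l)) (x : Fin l → ℕ), Nonempty (Gd hp p α π x) ∧ pm p π x ∈ L ∧
      ∀ i : Fin l, (ρ ⟨i, lt_rank hp i⟩ : ℕ) = π i ∧ C.graphExp c i (π i) = p ^ x i := by
  subst h
  exact ⟨_, 1, _, ⟨Gd.frob hp p k 0⟩, by rwa [pm_one], fun i => ⟨rfl, graphExp_self c i⟩⟩

theorem eq_one_of_imgs {ρ : Equiv.Perm (Fin C.rank)} (h : imgs ρ = List.range C.rank) : ρ = 1 :=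
  eq_of_imgs (h.trans imgs_one.symm)

theorem realised_of [Finite F] [CharP F p] {g : MulAut ↥(C.group F)} {ρ : Equiv.Perm (Fin C.rank)}
    (h : H79.OutChev.IsGr hp.inList ρ (fun i => C.graphExp (ringChar F) i (ρ i)) g) :
    ρ ∈ H70.OutCount.realised hp.inList F := by
  have hs : ∀ i : Fin C.rank, Function.Surjective fun t : F => t ^ C.graphExp (ringChar F) i (ρ i) := by
    intro i
    unfold ChevalleyDatum.graphExp
    split_ifs
    · rw [ringChar.eq F p]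
      exact H69.OutGF.hperf p
    · intro t
      exact ⟨t, pow_one t⟩
  exact ⟨g, ⟨fun i => H69.OutGF.smul_XX hp.inList (φ := g) (hs i) fun t => (h i t).1,
    fun i => H69.OutGF.smul_XX hp.inList (φ := g) (hs i) fun t => (h i t).2⟩⟩

end Gen

theorem onto6 : Onto chevE6 6 (bS symmE6) := by decide +kernel

theorem onto4 : Onto chevD4 4 (bS symmD4a) := by decide +kernel

theorem tab4c : Tab chevD4 4 (bS symmD4c) (fun _ => 0) (eS symmD4c) pi4c := by decide +kernel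

theorem onto4c : Onto chevD4 4 (bS symmD4c) := by decide +kernel

theorem posF : ∀ r < chevF4.nroots, (∀ i, 0 ≤ RGDChev.vec chevF4 4 r i) →
    ∀ i, 0 ≤ RGDChev.vec chevF4 4 (TwF4.Rel.bar r) i := by decide +kernel

theorem posB : ∀ r < chevB2.nroots, (∀ i, 0 ≤ RGDChev.vec chevB2 2 r i) →
    ∀ i, 0 ≤ RGDChev.vec chevB2 2 (Tw.brB r) i := by decide +kernel

theorem exF (m : ℕ) (i : Fin 4) : Tw.exF4 m (chevF4.simple i) = m + (![1, 1, 0, 0] : Fin 4 → ℕ) i := by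
  have h : ∀ i : Fin 4, TwF4.Fix.isLong (chevF4.simple i) = (![false, false, true, true] : Fin 4 → Bool) i := by
    decide +kernel
  rw [Tw.exF4, h]
  fin_cases i <;> rfl

theorem exB : ∀ i : Fin 2, Tw.lgB (chevB2.simple i) = (![1, 0] : Fin 2 → ℕ) i := by decide +kernel

theorem spcD_B : Tw.SpcD chevB2 2 Tw.brB Tw.lgB (Equiv.swap (0 : Fin 2) 1) 1 where
  lt r hr := (Tw.tabB r hr).1
  inv r hr := (Tw.tabB r hr).2.1
  neg r hr := (Tw.tabB r hr).2.2.1
  exneg r hr := (Tw.tabB r hr).2.2.2.1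
  sum r hr := (Tw.tabB r hr).2.2.2.2.1
  simple := by decide +kernel

theorem ge6 (c : ℕ) : ∀ i j : Fin 6, chevE6.graphExp c i j = 1 := by
  have h : ∀ i j : Fin 6, (chevE6.isLong (chevE6.simple j) && !chevE6.isLong (chevE6.simple i)) = false := by
    decide +kernel
  intro i j
  rw [ChevalleyDatum.graphExp, h]
  rfl

theorem ge4 (c : ℕ) : ∀ i j : Fin 4, chevD4.graphExp c i j = 1 := by
  have h : ∀ i j : Fin 4, (chevD4.isLong (chevD4.simple j) && !chevD4.isLong (chevD4.simple i)) = false := by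
    decide +kernel
  intro i j
  rw [ChevalleyDatum.graphExp, h]
  rfl

theorem geF : ∀ i : Fin 4, chevF4.graphExp 2 i (piF i) = 2 ^ (0 + (![1, 1, 0, 0] : Fin 4 → ℕ) i) := by decide +kernel

theorem geB : ∀ i : Fin 2, chevB2.graphExp 2 i (Equiv.swap (0 : Fin 2) 1 i : Fin 2) = 2 ^ (![1, 0] : Fin 2 → ℕ) i := by
  decide +kernel

section Types

variable (p : ℕ) [Fact p.Prime] (k : Type) [Field k] [CharP k p] [IsAlgClosed k]

/-- the graph automorphism of `E₆` -/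
def gd6 : Gd hpE6 p (symmE6.aut k) pi6 fun _ => 0 := gdS hpE6 p k symmE6 tab6 onto6

/-- triality -/
def gd4a : Gd hpD4 p (symmD4a.aut k) pi4 fun _ => 0 := gdS hpD4 p k symmD4a tab4 onto4

/-- a graph involution of `D₄` -/
def gd4c : Gd hpD4 p (symmD4c.aut k) pi4c fun _ => 0 := gdS hpD4 p k symmD4c tab4c onto4c

variable (F : Type) [Field F] [Fintype F] [CharP F p]

theorem grL_E8 : GrL hpE8 p k F [1] := fun _ _ hρ _ =>
  gr_one (eq_one_of_imgs (List.mem_singleton.1 (imgs_E8 hρ))) (List.mem_singleton.2 rfl) _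

theorem grL_E7 : GrL hpE7 p k F [1] := fun _ _ hρ _ =>
  gr_one (eq_one_of_imgs (List.mem_singleton.1 (imgs_E7 hρ))) (List.mem_singleton.2 rfl) _

theorem grL_G2 (h3 : p ≠ 3) (hq : 3 ≤ Fintype.card F) : GrL hpG2 p k F [1] := by
  intro g ρ _ hg
  refine gr_one ?_ (List.mem_singleton.2 rfl) _
  rcases H69.OutGF.perm2 ρ with h | h
  · exact h
  · have h1 := realised_of (hp := hpG2) (p := p) hg
    have h2 : ρ = H69.OutGF.flip2 := h
    rw [h2] at h1
    refine absurd h1 (H69.OutGF.flip2_not_mem (fun h4 => h3 ?_) (by rwa [Nat.card_eq_fintype_card]))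
    exact (Nat.prime_dvd_prime_iff_eq Fact.out Nat.prime_three).1 ((CharP.cast_eq_zero_iff F p 3).1 h4)

theorem grL_F4 (h2 : p ≠ 2) : GrL hpF4 p k F [1] := by
  intro g ρ _ hg
  refine gr_one ?_ (List.mem_singleton.2 rfl) _
  have h1 := realised_of (hp := hpF4) (p := p) hg
  rcases H69.OutGF.realised_F4 h1 with h | h
  · exact h
  · rw [h] at h1
    refine absurd h1 (H69.OutGF.flip4_not_mem fun h4 => h2 ?_)
    exact (Nat.prime_dvd_prime_iff_eq Fact.out Nat.prime_two).1 ((CharP.cast_eq_zero_iff F p 2).1 h4)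

theorem grL_E6 : GrL hpE6 p k F [1, P6] := by
  intro g ρ hρ _
  have h := imgs_E6 hρ
  rcases List.mem_cons.1 h with h | h
  · exact gr_one (eq_one_of_imgs h) List.mem_cons_self _
  · exact ⟨_, pi6, _, ⟨gd6 p k⟩, by rw [pm_zero]; exact List.mem_cons_of_mem _ List.mem_cons_self, fun i =>
      ⟨val_of_imgs (hp := hpE6) (List.mem_singleton.1 h) (by decide) i, ge6 _ _ _⟩⟩

theorem grL_D4 : GrL hpD4 p k F L4 := by
  intro g ρ hρ _
  have h := imgs_D4 hρ
  have key : ∀ (α : MulAut ↥(chevD4.group k)) (π : Equiv.Perm (Fin 4)) (L : List ℕ), Gd hpD4 p α π (fun _ => 0) →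
      pmat π ∈ L4 → imgs ρ = L → (∀ i : Fin 4, L.getD i 0 = π i) →
      ∃ (α : MulAut ↥(chevD4.group k)) (π : Equiv.Perm (Fin 4)) (x : Fin 4 → ℕ), Nonempty (Gd hpD4 p α π x) ∧
        pm p π x ∈ L4 ∧ ∀ i : Fin 4, (ρ ⟨i, lt_rank hpD4 i⟩ : ℕ) = π i ∧
          chevD4.graphExp (ringChar F) i (π i) = p ^ x i := fun α π L G h1 h2 h3 =>
    ⟨α, π, _, ⟨G⟩, by rwa [pm_zero], fun i => ⟨val_of_imgs (hp := hpD4) h2 h3 i, ge4 _ _ _⟩⟩
  simp only [List.mem_cons, List.not_mem_nil, or_false] at h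
  rcases h with h | h | h | h | h | h
  · exact gr_one (eq_one_of_imgs h) List.mem_cons_self _
  · exact key _ _ _ ((gd4c p k).mul (gd4a p k)) (by simp [L4]) h (by decide)
  · exact key _ _ _ (gd4c p k) (by simp [L4]) h (by decide)
  · exact key _ _ _ (gd4a p k) (by simp [L4]) h (by decide)
  · exact key _ _ _ ((gd4a p k).mul (gd4a p k)) (by simp [L4]) h (by decide)
  · exact key _ _ _ ((gd4a p k).mul (gd4c p k)) (by simp [L4]) h (by decide)

end Types

section Two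

variable (k : Type) [Field k] [CharP k 2] [IsAlgClosed k]

/-- the special isogenies of `F₄` -/
noncomputable def gdF (m : ℕ) : Gd hpF4 2 (Tw.steA k m) piF fun i => m + (![1, 1, 0, 0] : Fin 4 → ℕ) i :=
  gdC (Tw.spc_F4 m) (Tw.spcD_F4 m) posF (exF m)

/-- the special isogeny of `B₂` -/
noncomputable def gdB : Gd hpB2 2 (Tw.gamB k) (Equiv.swap 0 1) ![1, 0] := gdC (Tw.spc_gamB k) spcD_B posB exB

variable (F : Type) [Field F] [Fintype F] [CharP F 2]

theorem grL_F4two : GrL hpF4 2 k F [1, GamF] := by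
  intro g ρ hρ _
  have h := imgs_F4 hρ
  rcases List.mem_cons.1 h with h | h
  · exact gr_one (eq_one_of_imgs h) List.mem_cons_self _
  · refine ⟨_, piF, _, ⟨gdF k 0⟩, ?_, fun i => ⟨val_of_imgs (hp := hpF4) (List.mem_singleton.1 h) (by decide) i, ?_⟩⟩
    · rw [pm_add, pow_zero, one_smul]
      exact List.mem_cons_of_mem _ List.mem_cons_self
    · rw [ringChar.eq F 2]
      exact geF i

theorem grL_B2two : GrL hpB2 2 k F [1, GamB] := by
  intro g ρ hρ _
  have h := imgs_B2 hρ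
  rcases List.mem_cons.1 h with h | h
  · exact gr_one (eq_one_of_imgs h) List.mem_cons_self _
  · refine ⟨_, _, _, ⟨gdB k⟩, List.mem_cons_of_mem _ List.mem_cons_self, fun i =>
      ⟨val_of_imgs (hp := hpB2) (List.mem_singleton.1 h) (by decide) i, ?_⟩⟩
    rw [ringChar.eq F 2]
    exact geB i

end Two

end Cfsg.Agent.KZ.DatX
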